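import Cfsg.Agent.CoZeroInvol.Invol
import Cfsg.Agent.CoOneOut.Out

/-!
Facts on the involutions of the automorphism group of the Leech lattice: the centralizers of an octad and
a dodecad sign change differ in order, and commuting pairs with given classes of products.
-/

set_option autoImplicit false
set_option linter.style.haveILetI false

namespace CfsgLib.CoZeroStd

open Cfsg CfsgLib.Mathieu CfsgLib.Leech CfsgLib.CoOneInv CfsgLib.CoZeroInvol CfsgLib.CoOneOut CfsgLib.StdForms

theorem neg_comm (x : Co0) : negCo0 * x = x * negCo0 :=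
  (Subgroup.mem_center_iff.1 negCo0_mem_center x).symm

theorem centralizer_wElt : Subgroup.centralizer ({wElt} : Set Co0) = C0 := by
  ext g
  rw [Subgroup.mem_centralizer_singleton_iff, Subgroup.mem_centralizer_singleton_iff, wElt_eq_neg_mul,
    ← mul_assoc g, ← neg_comm g, mul_assoc negCo0 g, mul_assoc negCo0 epsCo0, mul_right_inj]

theorem projC_eq_one {g : Co0} (h : projC g = 1) : g = 1 ∨ g = negCo0 := by
  rcases projC_eq_cases (h.trans (map_one projC).symm) with e | e
  · exact Or.inl e.symm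
  · refine Or.inr ?_
    have := congrArg (negCo0 * ·) e
    simp only [mul_one, ← mul_assoc, negCo0_sq, one_mul] at this
    exact this.symm

theorem card_omega_eq : Nat.card (Cfsg.Omega (ZMod 2) ⇑Q8) = 2 ^ 12 * 42525 := by
  have h := CfsgLib.Forms4.card_pOmegaPlus (F := ZMod 2) (q := 2) (ZMod.card 2) 4 le_rfl
  have h1 : Nat.gcd 4 (2 ^ 4 - 1) = 1 := by decide
  rw [h1, one_mul, ← coe_plusQ] at h
  have e : Nat.card (Cfsg.Omega (ZMod 2) ⇑Q8) = Nat.card (Cfsg.POmega (ZMod 2) ⇑Q8) :=
    Nat.card_congr (QuotientGroup.quotientBot.symm.trans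
      (QuotientGroup.quotientMulEquivOfEq omega_simple.2.symm)).toEquiv
  refine e.trans (h.trans ?_)
  simp only [Finset.prod_range_succ, Finset.prod_range_zero, Nat.reduceSub]
  norm_num

/-- The centralizer of the octad involution has no element of order eleven. -/
theorem no_eleven {g : Co0} (hg : g ∈ C0) (h : orderOf g = 11) : False := by
  haveI := co0_finite
  haveI : Fact (Nat.Prime 11) := ⟨by norm_num⟩
  obtain ⟨e⟩ := quotient_equiv
  set q : C1 := projCen ⟨g, hg⟩
  have hq1 : q ≠ 1 := by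
    intro h1
    rcases projC_eq_one (congrArg Subtype.val h1) with e' | e'
    · rw [show g = 1 from e', orderOf_one] at h; omega
    · have : g ^ 2 = 1 := by rw [show g = negCo0 from e', pow_two, negCo0_sq]
      have := orderOf_dvd_of_pow_eq_one this
      rw [h] at this
      norm_num at this
  have hq : orderOf q = 11 := orderOf_eq_prime (by
    show projCen ⟨g, hg⟩ ^ 11 = 1
    rw [← map_pow, show (⟨g, hg⟩ : C0) ^ 11 = 1 from Subtype.ext (by
      show g ^ 11 = 1
      rw [← h]; exact pow_orderOf_eq_one g), map_one]) hq1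
  have hd := orderOf_dvd_natCard q
  rw [hq, Subgroup.card_eq_card_quotient_mul_card_subgroup QOne, card_QOne, Nat.card_congr e.toEquiv,
    card_omega_eq] at hd
  norm_num at hd

/-- An element of order eleven commutes with the dodecad involution. -/
theorem exists_eleven : ∃ g ∈ Subgroup.centralizer ({dodCo0} : Set Co0), orderOf g = 11 := by
  haveI : Fact (Nat.Prime 11) := ⟨by norm_num⟩
  have hb : [bMv].all Mv.ok = true := bMv_ok
  have he : [eMv].all Mv.ok = true := by decide +kernel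
  refine ⟨moveElt [bMv], ?_, orderOf_eq_prime moveElt_b_pow ?_⟩
  · have hd : moveElt [eMv] = dodCo0 :=
      moveElt_mono (by decide +kernel) (one_mem _) idTab_rep (setOf24_mem_supports dodMask_code.1) rfl
    rw [Subgroup.mem_centralizer_singleton_iff, ← hd, ← moveElt_append he hb, ← moveElt_append hb he]
    exact moveElt_eq (by rw [List.all_append, he, hb]; rfl) (by rw [List.all_append, he, hb]; rfl)
      (by decide +kernel)
  · intro h
    have h' : coElt [bMv] = 1 := by rw [coElt, h, map_one]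
    exact coElt_ne_one hb (j := 1) (by norm_num) (by decide +kernel) h'

theorem card_centralizer_dod_ne :
    Nat.card (Subgroup.centralizer ({dodCo0} : Set Co0)) ≠
      Nat.card (Subgroup.centralizer ({wElt} : Set Co0)) := by
  intro h
  haveI := co0_finite
  haveI : Fact (Nat.Prime 11) := ⟨by norm_num⟩
  obtain ⟨g, hg, ho⟩ := exists_eleven
  have hd := orderOf_dvd_natCard (⟨g, hg⟩ : Subgroup.centralizer ({dodCo0} : Set Co0))
  rw [Subgroup.orderOf_mk, ho, h, centralizer_wElt] at hd
  obtain ⟨⟨x, hx⟩, hxo⟩ := exists_prime_orderOf_dvd_card' 11 hd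
  rw [Subgroup.orderOf_mk] at hxo
  exact no_eleven hx hxo

/-- The commutator of two members of the extraspecial subgroup. -/
theorem exists_commutator_wElt : ∃ x ∈ fixK, ∃ y ∈ fixK, x * y * x⁻¹ * y⁻¹ = wElt := by
  obtain ⟨b, hb⟩ := ((kElt_nondeg (1, 0)).resolve_left fun h =>
    absurd (kElt_injective (h.trans kElt_zero.symm)) (by decide)).resolve_left fun h =>
    absurd (kElt_injective h) (by decide)
  refine ⟨_, kElt_mem_fixK (1, 0), _, kElt_mem_fixK b, ?_⟩
  have h := kElt_mul_cases (1, 0) b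
  split_ifs at h with hc
  · exact absurd h hb
  · rw [h, mul_assoc (kElt b * kElt (1, 0)), ← (Commute.inv_left (wElt_comm (1, 0))).eq]
    group
    rw [zpow_neg_one, wElt_comm b, mul_inv_cancel_right]

theorem commutator_fixK {x y : Co0} (hx : x ∈ fixK) (hy : y ∈ fixK) :
    x * y * x⁻¹ * y⁻¹ = 1 ∨ x * y * x⁻¹ * y⁻¹ = wElt := by
  obtain ⟨a, rfl⟩ := exists_kElt hx
  obtain ⟨b, rfl⟩ := exists_kElt hy
  rw [kElt_mul_cases a b]
  split_ifs
  · exact Or.inl (by group)
  · refine Or.inr ?_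
    rw [mul_assoc (kElt b * kElt a), ← (Commute.inv_left (wElt_comm a)).eq]
    group
    rw [zpow_neg_one, wElt_comm b, mul_inv_cancel_right]

theorem fixK_normalized {g k : Co0} (hg : g ∈ C0) (hk : k ∈ fixK) : g * k * g⁻¹ ∈ fixK :=
  fixKC_normal.conj_mem ⟨k, fixK_le_C0 hk⟩ hk ⟨g, hg⟩

/-- A normal 2-subgroup of the centralizer lies in the extraspecial subgroup up to sign. -/
theorem mem_fixK_of_normal {N : Subgroup Co0} (hN : N ≤ C0)
    (hn : ∀ g ∈ C0, ∀ x ∈ N, g * x * g⁻¹ ∈ N) (h2 : IsPGroup 2 N) {x : Co0} (hx : x ∈ N) :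
    x ∈ fixK ∨ negCo0 * x ∈ fixK := by
  haveI := finite_Co1
  haveI : Fact (Nat.Prime 2) := ⟨Nat.prime_two⟩
  haveI : (N.subgroupOf C0).Normal := ⟨fun a ha g => hn _ g.2 _ ha⟩
  haveI : ((N.subgroupOf C0).map projCen).Normal :=
    Subgroup.Normal.map inferInstance _ projCen_surjective
  have hp : IsPGroup 2 ((N.subgroupOf C0).map projCen) :=
    (h2.of_equiv (Subgroup.subgroupOfEquivOfLe hN).symm).map _
  have hle := CfsgLib.Components.le_fittingSubgroup hp.isNilpotent
  obtain ⟨k, hk, e⟩ := fitting_le_QOne (hle ⟨⟨x, hN hx⟩, hx, rfl⟩)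
  rcases projC_eq_cases (congrArg Subtype.val e) with h | h
  · exact Or.inl ((show x = (k : Co0) from h) ▸ hk)
  · refine Or.inr ?_
    rw [show x = negCo0 * (k : Co0) from h, ← mul_assoc, negCo0_sq, one_mul]
    exact hk

/-- Two octad involutions whose product is an octad involution. -/
theorem exists_octad_pair : ∃ a b : Co0, IsConj epsCo0 a ∧ IsConj epsCo0 b ∧ IsConj epsCo0 (a * b) ∧
    a * b = b * a := by
  have h : isCode 5279 = true ∧ isCode 10558 = true ∧ wt 5279 = 8 ∧ wt 10558 = 8 ∧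
      wt (5279 ^^^ 10558) = 8 := by decide +kernel
  refine ⟨_, _, isConj_eps_diag (setOf24_mem_supports h.1) ((card_setOf24 _).trans h.2.2.1),
    isConj_eps_diag (setOf24_mem_supports h.2.1) ((card_setOf24 _).trans h.2.2.2.1), ?_, ?_⟩
  · rw [diag_mul]
    exact isConj_eps_diag _ (by rw [← setOf24_xor, card_setOf24, h.2.2.2.2])
  · rw [diag_mul, diag_mul]
    exact diag_congr (symmDiff_comm _ _)

/-- Two dodecad involutions whose product is an octad involution. -/
theorem exists_dodecad_pair : ∃ a b : Co0, IsConj dodCo0 a ∧ IsConj dodCo0 b ∧ IsConj epsCo0 (a * b) ∧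
    a * b = b * a := by
  have h : isCode 28637 = true ∧ isCode 57274 = true ∧ wt 28637 = 12 ∧ wt 57274 = 12 ∧
      wt (28637 ^^^ 57274) = 8 := by decide +kernel
  refine ⟨_, _, isConj_dod_diag (setOf24_mem_supports h.1) ((card_setOf24 _).trans h.2.2.1),
    isConj_dod_diag (setOf24_mem_supports h.2.1) ((card_setOf24 _).trans h.2.2.2.1), ?_, ?_⟩
  · rw [diag_mul]
    exact isConj_eps_diag _ (by rw [← setOf24_xor, card_setOf24, h.2.2.2.2])
  · rw [diag_mul, diag_mul]
    exact diag_congr (symmDiff_comm _ _)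

/-- Every automorphism is inner. -/
theorem exists_conj_of_mulEquiv (hperf : Group.IsPerfect Co0) (φ : Co0 ≃* Co0) :
    ∃ a : Co0, ∀ x, φ x = a * x * a⁻¹ := by
  have hmap : (Subgroup.center Co0).map φ.toMonoidHom = Subgroup.center Co0 := by
    ext x
    constructor
    · rintro ⟨y, hy, rfl⟩
      rw [Subgroup.mem_center_iff]
      intro g
      obtain ⟨h, rfl⟩ := φ.surjective g
      show φ h * φ y = φ y * φ h
      rw [← map_mul, Subgroup.mem_center_iff.1 hy h, map_mul]
    · intro hx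
      refine ⟨φ.symm x, ?_, φ.apply_symm_apply x⟩
      rw [SetLike.mem_coe, Subgroup.mem_center_iff]
      intro g
      apply φ.injective
      rw [map_mul, map_mul, φ.apply_symm_apply]
      exact Subgroup.mem_center_iff.1 hx _
  let ψ : MulAut Spor.Co1 := QuotientGroup.congr _ _ φ hmap
  have hc := out_coOne
  haveI : Subsingleton (Cfsg.Out Spor.Co1) := (Nat.card_eq_one_iff_unique.1 hc).1
  obtain ⟨b, hb⟩ := (QuotientGroup.eq_one_iff (N := Cfsg.Inn Spor.Co1) ψ).1 (Subsingleton.elim _ _)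
  obtain ⟨a, rfl⟩ := QuotientGroup.mk'_surjective (Subgroup.center Co0) b
  refine ⟨a, fun x => ?_⟩
  let θ : Co0 →* Co0 := ((MulAut.conj a⁻¹).toMonoidHom).comp φ.toMonoidHom
  have hθ : ∀ y, θ y * y⁻¹ ∈ Subgroup.center Co0 := fun y => by
    have e : ψ (QuotientGroup.mk y) = MulAut.conj (QuotientGroup.mk' (Subgroup.center Co0) a)
        (QuotientGroup.mk y) := by rw [← hb]
    have e' : (QuotientGroup.mk (φ y) : Spor.Co1) = QuotientGroup.mk (a * y * a⁻¹) := e
    obtain ⟨d, hd, hd'⟩ : ∃ d ∈ Subgroup.center Co0, φ y = a * y * a⁻¹ * d :=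
      ⟨(a * y * a⁻¹)⁻¹ * φ y, QuotientGroup.eq.1 e'.symm, by group⟩
    show a⁻¹ * φ y * a⁻¹⁻¹ * y⁻¹ ∈ _
    rw [hd', show a⁻¹ * (a * y * a⁻¹ * d) * a⁻¹⁻¹ * y⁻¹ = y * (a⁻¹ * d * a) * y⁻¹ by group]
    rw [mul_assoc a⁻¹, ← Subgroup.mem_center_iff.1 hd a, inv_mul_cancel_left,
      Subgroup.mem_center_iff.1 hd y, mul_inv_cancel_right]
    exact hd
  let δ : Co0 →* Co0 := MonoidHom.mk' (fun y => θ y * y⁻¹) (fun y w => by
    simp only [map_mul, mul_inv_rev]
    calc θ y * θ w * (w⁻¹ * y⁻¹) = θ y * ((θ w * w⁻¹) * y⁻¹) := by group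
      _ = θ y * (y⁻¹ * (θ w * w⁻¹)) := by rw [Subgroup.mem_center_iff.1 (hθ w) y⁻¹]
      _ = θ y * y⁻¹ * (θ w * w⁻¹) := by group)
  have hδ : δ x = 1 := by
    have h : commutator Co0 ≤ δ.ker := by
      rw [commutator_def, Subgroup.commutator_le]
      intro u _ v _
      rw [MonoidHom.mem_ker, map_commutatorElement, commutatorElement_eq_one_iff_mul_comm]
      exact Subgroup.mem_center_iff.1 (hθ v) _
    haveI := hperf
    rw [Group.IsPerfect.commutator_eq_top] at h
    exact h (Subgroup.mem_top x)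
  have hx : a⁻¹ * φ x * a⁻¹⁻¹ = x := mul_inv_eq_one.1 (show θ x * x⁻¹ = 1 from hδ)
  calc φ x = a * (a⁻¹ * φ x * a⁻¹⁻¹) * a⁻¹ := by group
    _ = a * x * a⁻¹ := by rw [hx]

end CfsgLib.CoZeroStd
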