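import Cfsg.Agent.CoZeroStd.Facts
import Cfsg.Agent.StdDoubleCover.Basic

/-!
A standard subgroup isomorphic to the automorphism group of the Leech lattice, with cyclic Sylow
2-subgroups in its centralizer, is normal when the odd core is trivial.
-/

set_option autoImplicit false
set_option linter.style.haveILetI false
set_option linter.unusedSectionVars false

namespace CfsgLib.CoZeroStd

open Subgroup Cfsg CfsgLib.Leech CfsgLib.CoOneInv CfsgLib.CoZeroInvol

/-- An embedding of `Co0` onto the standard subgroup. -/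
structure Emb {G : Type*} [Group G] (A : Subgroup G) (ι : ↥Co0 →* G) : Prop where
  inj : Function.Injective ι
  range : ι.range = A
  setup : StdDoubleCover.Setup A (ι negCo0)

namespace Emb

variable {G : Type*} [Group G] [Finite G] {A : Subgroup G} {ι : ↥Co0 →* G} (E : Emb A ι)
include E

local notation "CA" => centralizer (A : Set G)

theorem mem (a : Co0) : ι a ∈ A := E.range ▸ ⟨a, rfl⟩

theorem exists_eq {x : G} (hx : x ∈ A) : ∃ a, ι a = x := by
  rw [← E.range] at hx; exact hx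

theorem commute {c : G} (hc : c ∈ CA) (a : Co0) : Commute (ι a) c :=
  StdDoubleCover.commute_of_mem (E.mem a) hc

theorem central_of_mem {a : Co0} (h : ι a ∈ CA) : a ∈ Subgroup.center Co0 :=
  Subgroup.mem_center_iff.2 fun b => E.inj (by rw [map_mul, map_mul]; exact (E.commute h b).eq)

theorem mem_of_central {a : Co0} (h : a ∈ Subgroup.center Co0) : ι a ∈ CA := by
  rw [Subgroup.mem_centralizer_iff]
  intro x hx
  obtain ⟨b, rfl⟩ := E.exists_eq hx
  rw [← map_mul, ← map_mul, Subgroup.mem_center_iff.1 h b]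

theorem commute_z (a : Co0) : Commute (ι a) (ι negCo0) := by
  show _ = _
  rw [← map_mul, ← map_mul, neg_comm]

/-- The common centralizer of `z` and an involution of the subgroup. -/
def W (_ : Emb A ι) (y : Co0) : Subgroup G :=
  centralizer ({ι negCo0} : Set G) ⊓ centralizer ({ι y} : Set G)

theorem mem_W {y : Co0} {x : G} : x ∈ E.W y ↔
    ∃ a : Co0, a * y = y * a ∧ ∃ c ∈ CA, x = ι a * c := by
  constructor
  · rintro ⟨h1, h2⟩
    replace h1 := mem_centralizer_singleton_iff.1 h1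
    replace h2 := mem_centralizer_singleton_iff.1 h2
    obtain ⟨b, hb, c, hc, rfl⟩ := E.setup.exists_prod h1
    obtain ⟨a, rfl⟩ := E.exists_eq hb
    refine ⟨a, E.inj ?_, c, hc, rfl⟩
    rw [map_mul, map_mul]
    rw [mul_assoc, ← (E.commute hc y).eq, ← mul_assoc, ← mul_assoc] at h2
    exact mul_right_cancel h2
  · rintro ⟨a, ha, c, hc, rfl⟩
    have ha' : Commute (ι a) (ι y) := by show _ = _; rw [← map_mul, ← map_mul, ha]
    exact mem_inf.2 ⟨mem_centralizer_singleton_iff.2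
        ((E.commute_z a).mul_left (E.commute hc negCo0).symm).eq,
      mem_centralizer_singleton_iff.2 (ha'.mul_left (E.commute hc y).symm).eq⟩

theorem W_neg (y : Co0) : E.W (negCo0 * y) = E.W y := by
  ext x
  rw [E.mem_W, E.mem_W]
  have h : ∀ a : Co0, a * (negCo0 * y) = negCo0 * y * a ↔ a * y = y * a := fun a => by
    rw [← mul_assoc, ← neg_comm a, mul_assoc, mul_assoc, mul_right_inj]
  simp only [h]

theorem card_W (y : Co0) : Nat.card (E.W y) * Nat.card (Subgroup.center Co0) =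
    Nat.card (Subgroup.centralizer ({y} : Set Co0)) * Nat.card CA := by
  haveI := co0_finite
  let f : ↥(Subgroup.centralizer ({y} : Set Co0)) × ↥CA →* G :=
    (ι.comp (Subgroup.centralizer ({y} : Set Co0)).subtype).noncommCoprod (CA).subtype
      fun a c => E.commute c.2 a.1
  have hr : f.range = E.W y := by
    ext x
    rw [E.mem_W]
    constructor
    · rintro ⟨⟨a, c⟩, rfl⟩
      exact ⟨a, Subgroup.mem_centralizer_singleton_iff.1 a.2, c, c.2, rfl⟩
    · rintro ⟨a, ha, c, hc, rfl⟩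
      exact ⟨(⟨a, Subgroup.mem_centralizer_singleton_iff.2 ha⟩, ⟨c, hc⟩), rfl⟩
  let κ : ↥f.ker ≃ ↥(Subgroup.center Co0) :=
    { toFun := fun p => ⟨(p.1.1 : Co0), E.central_of_mem (by
        have h : ι p.1.1 * (p.1.2 : G) = 1 := p.2
        rw [eq_inv_of_mul_eq_one_left h]
        exact inv_mem p.1.2.2)⟩
      invFun := fun a => ⟨(⟨a.1, Subgroup.mem_centralizer_singleton_iff.2
        (Subgroup.mem_center_iff.1 a.2 y).symm⟩, ⟨(ι a.1)⁻¹, inv_mem (E.mem_of_central a.2)⟩),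
        mul_inv_cancel (ι a.1)⟩
      left_inv := fun p => by
        have h : ι p.1.1 * (p.1.2 : G) = 1 := p.2
        exact Subtype.ext (Prod.ext rfl (Subtype.ext (inv_eq_of_mul_eq_one_right h)))
      right_inv := fun a => rfl }
  rw [← hr, ← Nat.card_congr κ, ← Nat.card_prod (Subgroup.centralizer ({y} : Set Co0)) CA,
    Subgroup.card_eq_card_quotient_mul_card_subgroup f.ker,
    Nat.card_congr (QuotientGroup.quotientKerEquivRange f).toEquiv]

theorem W_conj {g : G} {w y : Co0} (hw : g * ι negCo0 * g⁻¹ = ι w) (hy : g⁻¹ * ι negCo0 * g = ι y) :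
    (E.W w).map (MulAut.conj g⁻¹).toMonoidHom = E.W y := by
  have key : ∀ x : G, ∀ t : G, (g⁻¹ * x * g) * (g⁻¹ * t * g) = (g⁻¹ * t * g) * (g⁻¹ * x * g) ↔
      x * t = t * x := fun x t => by
    rw [show g⁻¹ * x * g * (g⁻¹ * t * g) = g⁻¹ * (x * t) * g by group,
      show g⁻¹ * t * g * (g⁻¹ * x * g) = g⁻¹ * (t * x) * g by group, mul_left_inj, mul_right_inj]
  have hz : g⁻¹ * ι w * g = ι negCo0 := by rw [← hw]; group
  ext v
  constructor
  · rintro ⟨x, ⟨h1, h2⟩, rfl⟩
    replace h1 := mem_centralizer_singleton_iff.1 h1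
    replace h2 := mem_centralizer_singleton_iff.1 h2
    simp only [W, mem_inf, mem_centralizer_singleton_iff, MulEquiv.coe_toMonoidHom,
      MulAut.conj_apply, inv_inv, ← hy]
    exact ⟨by rw [← hz, key]; exact h2, (key _ _).2 h1⟩
  · rintro ⟨h1, h2⟩
    replace h1 := mem_centralizer_singleton_iff.1 h1
    replace h2 := mem_centralizer_singleton_iff.1 h2
    have ev : g⁻¹ * (g * v * g⁻¹) * g = v := by group
    refine ⟨g * v * g⁻¹, ⟨?_, ?_⟩, by simp [mul_assoc]⟩ <;>
      refine mem_centralizer_singleton_iff.2 ((key _ _).1 ?_) <;> rw [ev]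
    · rw [hy]; exact h2
    · rw [hz]; exact h1

/-- A commutator of two members of a normal 2-subgroup of the common centralizer of `z` and `ι wElt`. -/
def IsSpecial (E : Emb A ι) (v : G) : Prop := ∃ N : Subgroup G, N ≤ E.W wElt ∧
  (∀ g ∈ E.W wElt, ∀ n ∈ N, g * n * g⁻¹ ∈ N) ∧ IsPGroup 2 N ∧
  ∃ x ∈ N, ∃ y ∈ N, x * y * x⁻¹ * y⁻¹ = v

theorem fixK_map_le : fixK.map ι ≤ E.W wElt := by
  rintro _ ⟨k, hk, rfl⟩
  refine E.mem_W.2 ⟨k, ?_, 1, one_mem _, (mul_one _).symm⟩
  rw [← Subgroup.mem_centralizer_singleton_iff, centralizer_wElt]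
  exact fixK_le_C0 hk

theorem fixK_map_normalized : ∀ g ∈ E.W wElt, ∀ n ∈ fixK.map ι, g * n * g⁻¹ ∈ fixK.map ι := by
  rintro g hg _ ⟨k, hk, rfl⟩
  obtain ⟨a, ha, c, hc, rfl⟩ := E.mem_W.1 hg
  refine ⟨a * k * a⁻¹, fixK_normalized ?_ hk, ?_⟩
  · rwa [← centralizer_wElt, Subgroup.mem_centralizer_singleton_iff]
  · rw [map_mul, map_mul, map_inv]
    calc ι a * ι k * (ι a)⁻¹ = ι a * (c * ι k * c⁻¹) * (ι a)⁻¹ := by
          rw [← (E.commute hc k).eq, mul_inv_cancel_right]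
      _ = _ := by group

theorem isPGroup_fixK_map : IsPGroup 2 (fixK.map ι) := (IsPGroup.of_card card_fixK).map ι

theorem special_wElt : E.IsSpecial (ι wElt) := by
  obtain ⟨x, hx, y, hy, h⟩ := exists_commutator_wElt
  exact ⟨fixK.map ι, E.fixK_map_le, E.fixK_map_normalized, E.isPGroup_fixK_map,
    ι x, ⟨x, hx, rfl⟩, ι y, ⟨y, hy, rfl⟩, by simp only [← map_mul, ← map_inv, h]⟩

theorem special_cases {v : G} (h : E.IsSpecial v) : v = 1 ∨ v = ι wElt := by
  haveI := co0_finite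
  haveI : Fact (Nat.Prime 2) := ⟨Nat.prime_two⟩
  obtain ⟨N, hle, hn, hp, x, hx, y, hy, rfl⟩ := h
  let N₀ : Subgroup Co0 :=
    { carrier := {a | a ∈ C0 ∧ ∃ c ∈ CA, ι a * c ∈ N}
      one_mem' := ⟨one_mem _, 1, one_mem _, by rw [map_one, mul_one]; exact one_mem _⟩
      mul_mem' := by
        rintro a b ⟨ha, c, hc, hac⟩ ⟨hb, d, hd, hbd⟩
        refine ⟨mul_mem ha hb, c * d, mul_mem hc hd, ?_⟩
        convert N.mul_mem hac hbd using 1
        rw [map_mul, ((E.commute hc b).symm).mul_mul_mul_comm]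
      inv_mem' := by
        rintro a ⟨ha, c, hc, hac⟩
        refine ⟨inv_mem ha, c⁻¹, inv_mem hc, ?_⟩
        convert N.inv_mem hac using 1
        rw [map_inv, mul_inv_rev]
        exact ((E.commute hc a).inv_inv).eq }
  have hp0 : IsPGroup 2 N₀ := fun ⟨a, ha, c, hc, hac⟩ => by
    obtain ⟨m, hm⟩ := hp ⟨_, hac⟩
    have h1 : (ι a * c) ^ 2 ^ m = 1 := congrArg Subtype.val hm
    rw [(E.commute hc a).mul_pow, ← map_pow] at h1
    have hcen : a ^ 2 ^ m ∈ Subgroup.center Co0 := E.central_of_mem (by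
      rw [eq_inv_of_mul_eq_one_left h1]; exact inv_mem (pow_mem hc _))
    refine ⟨m + 1, Subtype.ext ?_⟩
    show a ^ 2 ^ (m + 1) = 1
    rw [pow_succ, pow_mul, pow_two]
    rcases center_cases hcen with e | e <;> rw [e]
    · exact one_mul 1
    · exact negCo0_sq
  have hn0 : ∀ g ∈ C0, ∀ a ∈ N₀, g * a * g⁻¹ ∈ N₀ := by
    rintro g hg a ⟨ha, c, hc, hac⟩
    refine ⟨mul_mem (mul_mem hg ha) (inv_mem hg), c, hc, ?_⟩
    have hgW : ι g ∈ E.W wElt := E.mem_W.2 ⟨g, by
      rw [← Subgroup.mem_centralizer_singleton_iff, centralizer_wElt]; exact hg, 1, one_mem _,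
      (mul_one _).symm⟩
    convert hn _ hgW _ hac using 1
    rw [map_mul, map_mul, map_inv]
    calc ι g * ι a * (ι g)⁻¹ * c = ι g * ι a * ((ι g)⁻¹ * c) := by group
      _ = ι g * ι a * (c * (ι g)⁻¹) := by rw [((E.commute hc g).inv_left).eq]
      _ = ι g * (ι a * c) * (ι g)⁻¹ := by group
  let M := N ⊔ fixK.map ι
  have hM : IsPGroup 2 M := hp.to_sup_of_normal_right' E.isPGroup_fixK_map fun n hn' => by
    rw [mem_normalizer_iff]
    intro k
    refine ⟨fun hk => E.fixK_map_normalized n (hle hn') k hk, fun hk => ?_⟩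
    have := E.fixK_map_normalized n⁻¹ (inv_mem (hle hn')) _ hk
    simpa [mul_assoc] using this
  have split : ∀ v ∈ N, ∃ f ∈ fixK, ∃ c ∈ CA, c ∈ M ∧ v = ι f * c := by
    intro v hv
    obtain ⟨a, ha, c, hc, rfl⟩ := E.mem_W.1 (hle hv)
    have haC : a ∈ C0 := by rwa [← centralizer_wElt, Subgroup.mem_centralizer_singleton_iff]
    have main : ∀ f ∈ fixK, ∀ d ∈ CA, ι a * c = ι f * d → d ∈ M := fun f hf d _ e => by
      rw [show d = (ι f)⁻¹ * (ι a * c) by rw [e, inv_mul_cancel_left]]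
      exact M.mul_mem (M.inv_mem (mem_sup_right ⟨f, hf, rfl⟩)) (mem_sup_left hv)
    rcases mem_fixK_of_normal (N := N₀) (fun b hb => hb.1) hn0 hp0 (x := a) ⟨haC, c, hc, hv⟩ with h | h
    · exact ⟨a, h, c, hc, main a h c hc rfl, rfl⟩
    · have hd : ι negCo0 * c ∈ CA := mul_mem (E.mem_of_central negCo0_mem_center) hc
      have e : ι a * c = ι (negCo0 * a) * (ι negCo0 * c) := by
        rw [← mul_assoc, ← map_mul, mul_assoc, ← neg_comm a, ← mul_assoc, negCo0_sq, one_mul]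
      exact ⟨_, h, _, hd, main _ h _ hd e, e⟩
  obtain ⟨f, hf, c, hc, hcM, rfl⟩ := split x hx
  obtain ⟨f', hf', d, hd, hdM, rfl⟩ := split y hy
  have hcd : Commute c d := by
    have hMC : IsPGroup 2 (M.subgroupOf CA) := hM.comap_of_injective _ (CA).subtype_injective
    obtain ⟨P, hP⟩ := hMC.exists_le_sylow
    haveI := E.setup.cyc P
    letI := IsCyclic.commGroup (α := ↥(P : Subgroup ↥CA))
    exact congrArg (fun x : ↥(P : Subgroup ↥CA) => ((x : ↥CA) : G))
      (mul_comm (⟨⟨c, hc⟩, hP hcM⟩ : ↥(P : Subgroup ↥CA)) ⟨⟨d, hd⟩, hP hdM⟩)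
  have e : ι f * c * (ι f' * d) * (ι f * c)⁻¹ * (ι f' * d)⁻¹ = ι (f * f' * f⁻¹ * f'⁻¹) := by
    simp only [map_mul, map_inv, mul_inv_rev]
    calc ι f * c * (ι f' * d) * (c⁻¹ * (ι f)⁻¹) * (d⁻¹ * (ι f')⁻¹)
        = ι f * (c * ι f') * (d * c⁻¹) * ((ι f)⁻¹ * d⁻¹) * (ι f')⁻¹ := by group
      _ = ι f * (ι f' * c) * (c⁻¹ * d) * (d⁻¹ * (ι f)⁻¹) * (ι f')⁻¹ := by
          rw [← (E.commute hc f').eq, ← (hcd.inv_left).eq,
            ((E.commute hd f).inv_inv).eq]
      _ = _ := by group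
  rcases commutator_fixK hf hf' with h | h
  · exact Or.inl (by rw [e, h, map_one])
  · exact Or.inr (by rw [e, h])

theorem IsK_cls {u y : Co0} (h : IsConj u y) (hu : E.setup.IsK (ι u)) : E.setup.IsK (ι y) := by
  obtain ⟨a, rfl⟩ := isConj_iff.1 h
  rw [map_mul, map_mul, map_inv]
  exact E.setup.isK_conj hu _

theorem IsK_cls' {u y : Co0} (h : IsConj u y) (hy : E.setup.IsK (ι y)) : E.setup.IsK (ι u) :=
  E.IsK_cls h.symm hy

theorem not_isK_one : ¬ E.setup.IsK 1 := fun ⟨g, hg⟩ => E.setup.ne_one (conj_eq_one_iff.1 hg)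

theorem cls_of {y : Co0} (h2 : y * y = 1) (h1 : y ≠ 1) (hn : y ≠ negCo0) : Cls y := by
  rcases involution_cases h2 with h | h
  · rcases center_cases h with h | h
    exacts [absurd h h1, absurd h hn]
  · exact h

theorem neg_mul_ne {a : Co0} (h : a ≠ 1) : negCo0 * a ≠ negCo0 := fun e =>
  h (mul_left_cancel (a := negCo0) (e.trans (mul_one _).symm))

theorem wElt_ne_neg : wElt ≠ negCo0 := fun h => negCo0_not_mem (h ▸ wElt_mem)

theorem eps_ne : epsCo0 ≠ 1 ∧ epsCo0 ≠ negCo0 := by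
  constructor <;> intro h <;> have e := wElt_eq_neg_mul <;> rw [h] at e
  · exact wElt_ne_neg (E := E) (e.trans (mul_one _))
  · exact wElt_ne_one (e.trans negCo0_sq)

theorem cls_of_isK {y : Co0} (hy : E.setup.IsK (ι y)) (hn : y ≠ negCo0) : Cls y := by
  refine E.cls_of (E.inj ?_) (fun h => E.not_isK_one (by rwa [h, map_one] at hy)) hn
  obtain ⟨g, hg⟩ := hy
  rw [map_mul, map_one, ← hg, show g * ι negCo0 * g⁻¹ * (g * ι negCo0 * g⁻¹) =
    g * (ι negCo0 * ι negCo0) * g⁻¹ by group, E.setup.mul_self, mul_one, mul_inv_cancel]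

theorem not_isK_wElt : ¬ E.setup.IsK (ι wElt) := by
  rintro ⟨g, hg⟩
  haveI := co0_finite
  obtain ⟨y, hy⟩ := E.exists_eq (E.setup.conj_inv_mem (hg ▸ E.commute_z wElt))
  have hyn : y ≠ negCo0 := by
    intro h
    rw [h] at hy
    refine wElt_ne_neg (E := E) (E.inj ?_)
    rw [← hg]
    calc g * ι negCo0 * g⁻¹ = g * (g⁻¹ * ι negCo0 * g) * g⁻¹ := by rw [← hy]
      _ = ι negCo0 := by group
  have hK : E.setup.IsK (ι y) := ⟨g⁻¹, by rw [hy]; group⟩
  have hW := E.W_conj hg hy.symm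
  -- the case of a conjugate of `wElt` after adjusting the sign
  have finish : ∀ y', E.W y' = E.W y → IsConj wElt y' → False := by
    intro y' hW' hc
    obtain ⟨a, rfl⟩ := isConj_iff.1 hc
    set k := (ι a)⁻¹ * g⁻¹
    have hmem : ∀ x ∈ E.W wElt, k * x * k⁻¹ ∈ E.W wElt := by
      intro x hx
      have : g⁻¹ * x * g ∈ E.W (a * wElt * a⁻¹) := by
        rw [hW', ← hW]; exact ⟨x, hx, by simp⟩
      obtain ⟨b, hb, c, hc, e⟩ := E.mem_W.1 this
      refine E.mem_W.2 ⟨a⁻¹ * b * a, ?_, c, hc, ?_⟩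
      · have := congrArg (fun t => a⁻¹ * t * a) hb
        simpa [mul_assoc] using this
      · simp only [map_mul, map_inv, k, mul_inv_rev, inv_inv]
        calc (ι a)⁻¹ * g⁻¹ * x * (g * ι a) = (ι a)⁻¹ * (g⁻¹ * x * g) * ι a := by group
          _ = (ι a)⁻¹ * ι b * (c * ι a) := by rw [e]; group
          _ = (ι a)⁻¹ * ι b * (ι a * c) := by rw [(E.commute hc a).eq]
          _ = _ := by group
    have hmap : (E.W wElt).map (MulAut.conj k).toMonoidHom = E.W wElt :=
      Subgroup.eq_of_le_of_card_ge (by rintro _ ⟨x, hx, rfl⟩; exact hmem x hx)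
        (Subgroup.card_map_of_injective (MulAut.conj k).injective).ge
    obtain ⟨N, hle, hn, hp, x, hx, v, hv, e⟩ := E.special_wElt
    have hsp : E.IsSpecial (k * ι wElt * k⁻¹) := by
      refine ⟨N.map (MulAut.conj k).toMonoidHom, (Subgroup.map_mono hle).trans hmap.le, ?_,
        hp.map _, k * x * k⁻¹, ⟨x, hx, rfl⟩, k * v * k⁻¹, ⟨v, hv, rfl⟩, by rw [← e]; group⟩
      rintro h hh _ ⟨n, hn', rfl⟩
      obtain ⟨h', hh', rfl⟩ := hmap.ge hh
      exact ⟨h' * n * h'⁻¹, hn h' hh' n hn', by simp [mul_assoc]⟩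
    have hk : k * ι wElt * k⁻¹ = ι negCo0 := by
      rw [← hg]
      calc (ι a)⁻¹ * g⁻¹ * (g * ι negCo0 * g⁻¹) * ((ι a)⁻¹ * g⁻¹)⁻¹
          = (ι a)⁻¹ * (ι negCo0 * ι a) := by group
        _ = ι negCo0 := by rw [← (E.commute_z a).eq, inv_mul_cancel_left]
    rw [hk] at hsp
    rcases E.special_cases hsp with h | h
    · exact E.setup.ne_one h
    · exact wElt_ne_neg (E := E) (E.inj h).symm
  rcases E.cls_of_isK hK hyn with h | h | h
  · exact finish (negCo0 * y) (E.W_neg y) ((negCo0_mul_cls (x := y)).1 h)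
  · exact finish y rfl h
  · obtain ⟨a, rfl⟩ := isConj_iff.1 h
    apply card_centralizer_dod_ne
    have h1 := E.card_W wElt
    rw [← Subgroup.card_map_of_injective (f := (MulAut.conj g⁻¹).toMonoidHom) (MulAut.conj g⁻¹).injective] at h1
    rw [hW, E.card_W] at h1
    have h2 : Nat.card (Subgroup.centralizer ({a * dodCo0 * a⁻¹} : Set Co0)) =
        Nat.card (Subgroup.centralizer ({dodCo0} : Set Co0)) := by
      rw [← Subgroup.card_map_of_injective (f := (MulAut.conj a).toMonoidHom)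
        (K := Subgroup.centralizer ({dodCo0} : Set Co0)) (MulAut.conj a).injective]
      congr 2
      ext x
      simp only [Subgroup.mem_map, Subgroup.mem_centralizer_singleton_iff]
      constructor
      · intro hx
        refine ⟨a⁻¹ * x * a, ?_, by simp [mul_assoc]⟩
        have := congrArg (fun t => a⁻¹ * t * a) hx
        simpa [mul_assoc] using this
      · rintro ⟨b, hb, rfl⟩
        show a * b * a⁻¹ * (a * dodCo0 * a⁻¹) = a * dodCo0 * a⁻¹ * (a * b * a⁻¹)
        calc a * b * a⁻¹ * (a * dodCo0 * a⁻¹) = a * (b * dodCo0) * a⁻¹ := by group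
          _ = a * (dodCo0 * b) * a⁻¹ := by rw [hb]
          _ = _ := by group
    rw [h2] at h1
    exact Nat.eq_of_mul_eq_mul_right Nat.card_pos h1

/-- The images in `A` of a conjugate pair of commuting conjugates of `z`. -/
theorem exists_partner {a b : Co0} (hab : a * b = b * a) (hb : E.setup.IsK (ι b)) {g : G}
    (hg : g * ι negCo0 * g⁻¹ = ι a) : ∃ y, ι y = g⁻¹ * ι b * g ∧ E.setup.IsK (ι y) := by
  obtain ⟨k, hk⟩ := hb
  have e : g⁻¹ * k * ι negCo0 * (g⁻¹ * k)⁻¹ = g⁻¹ * ι b * g := by rw [← hk]; group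
  have hc : Commute (g⁻¹ * k * ι negCo0 * (g⁻¹ * k)⁻¹) (ι negCo0) := by
    rw [e]
    have h : ι b * ι a = ι a * ι b := by rw [← map_mul, ← map_mul, hab]
    show g⁻¹ * ι b * g * ι negCo0 = ι negCo0 * (g⁻¹ * ι b * g)
    calc g⁻¹ * ι b * g * ι negCo0 = g⁻¹ * (ι b * (g * ι negCo0 * g⁻¹)) * g := by group
      _ = g⁻¹ * (ι a * ι b) * g := by rw [hg, h]
      _ = _ := by rw [← hg]; group
  obtain ⟨y, hy⟩ := E.exists_eq (E.setup.conj_mem hc)
  exact ⟨y, hy.trans e, ⟨g⁻¹ * k, hy.symm⟩⟩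

theorem isK_dod_of_eps (he : E.setup.IsK (ι epsCo0)) : E.setup.IsK (ι dodCo0) := by
  obtain ⟨a, b, ha, hb, hp, hab⟩ := exists_octad_pair
  obtain ⟨g, hg⟩ := E.IsK_cls ha he
  obtain ⟨y, hy, hyK⟩ := E.exists_partner hab (E.IsK_cls hb he) hg
  have hzy : E.setup.IsK (ι (negCo0 * y)) := by
    have := E.setup.isK_conj (E.IsK_cls hp he) g⁻¹
    convert this using 1
    rw [map_mul, map_mul, hy, ← hg]; group
  have hyn : y ≠ negCo0 := by
    intro h
    rw [h, negCo0_sq, map_one] at hzy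
    exact E.not_isK_one hzy
  rcases E.cls_of_isK hyK hyn with h | h | h
  · exact absurd (E.IsK_cls' ((negCo0_mul_cls (x := y)).1 h) hzy) E.not_isK_wElt
  · exact absurd (E.IsK_cls' h hyK) E.not_isK_wElt
  · exact E.IsK_cls' h hyK

theorem isK_eps_of_dod (hd : E.setup.IsK (ι dodCo0)) : E.setup.IsK (ι epsCo0) := by
  obtain ⟨a, b, ha, hb, hp, hab⟩ := exists_dodecad_pair
  obtain ⟨g, hg⟩ := E.IsK_cls ha hd
  obtain ⟨y, hy, hyK⟩ := E.exists_partner hab (E.IsK_cls hb hd) hg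
  have e : ι (a * b) = g * ι (negCo0 * y) * g⁻¹ := by
    rw [map_mul, map_mul, hy, ← hg]; group
  have hyn : y ≠ negCo0 := by
    intro h
    have h1 : a * b = 1 := E.inj (by rw [e, h, negCo0_sq, map_one, mul_one, mul_inv_cancel])
    obtain ⟨q, hq⟩ := isConj_iff.1 hp
    rw [h1] at hq
    exact E.eps_ne.1 (conj_eq_one_iff.1 hq)
  rcases E.cls_of_isK hyK hyn with h | h | h
  · exact E.IsK_cls' h hyK
  · exact absurd (E.IsK_cls' h hyK) E.not_isK_wElt
  · refine E.IsK_cls' hp ?_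
    rw [e]
    exact E.setup.isK_conj (E.IsK_cls ((negCo0_mul_cls (x := y)).2.2 h) (E.IsK_cls' h hyK)) g

theorem not_isK_eps : ¬ E.setup.IsK (ι epsCo0) := by
  intro he
  have hd := E.isK_dod_of_eps he
  obtain ⟨a, b, ha, hb, hp, hab⟩ := exists_octad_pair
  obtain ⟨g, hg⟩ := E.IsK_cls ha he
  obtain ⟨x, hx, -⟩ := E.exists_partner hab (E.IsK_cls hb he) hg
  obtain ⟨y, hy⟩ := E.exists_eq (E.setup.conj_inv_mem (hg ▸ E.commute_z a))
  have hnb : ¬ E.setup.IsK (ι (negCo0 * b)) := fun h =>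
    E.not_isK_wElt (E.IsK_cls' ((negCo0_mul_cls (x := b)).1 hb) h)
  have hnp : ¬ E.setup.IsK (ι (negCo0 * (a * b))) := fun h =>
    E.not_isK_wElt (E.IsK_cls' ((negCo0_mul_cls (x := a * b)).1 hp) h)
  set q := y * x
  have hq : ι q = g⁻¹ * ι (negCo0 * b) * g := by
    simp only [q, map_mul, hy, hx]; group
  have hq' : ι (negCo0 * q) = g⁻¹ * ι (negCo0 * (a * b)) * g := by
    have hz : ι negCo0 * ι a = ι a * ι negCo0 := (E.commute_z a).symm.eq
    rw [map_mul, hq, map_mul, map_mul, map_mul, ← mul_assoc (ι negCo0) (ι a), hz, ← hg]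
    group
  have nK : ¬ E.setup.IsK (ι q) := fun h => hnb (by
    have := E.setup.isK_conj h g
    convert this using 1
    rw [hq]; group)
  have nK' : ¬ E.setup.IsK (ι (negCo0 * q)) := fun h => hnp (by
    have := E.setup.isK_conj h g
    convert this using 1
    rw [hq']; group)
  have hb2 : b * b = 1 := by
    obtain ⟨r, hr⟩ := isConj_iff.1 hb
    rw [← hr, show r * epsCo0 * r⁻¹ * (r * epsCo0 * r⁻¹) = r * (epsCo0 * epsCo0) * r⁻¹ by group,
      epsCo0_eq_diag, diag_sq, mul_one, mul_inv_cancel]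
  have hq2 : q * q = 1 := E.inj (by
    rw [map_mul, map_one, hq, show g⁻¹ * ι (negCo0 * b) * g * (g⁻¹ * ι (negCo0 * b) * g) =
      g⁻¹ * (ι (negCo0 * b) * ι (negCo0 * b)) * g by group, ← map_mul,
      show negCo0 * b * (negCo0 * b) = 1 by
        rw [mul_assoc, ← mul_assoc b, ← neg_comm b, mul_assoc negCo0 b, hb2, mul_one, negCo0_sq],
      map_one, mul_one, inv_mul_cancel])
  have hq1 : q ≠ 1 := fun h => by
    rw [h, map_one] at hq
    have : ι (negCo0 * b) = 1 := by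
      calc ι (negCo0 * b) = g * (g⁻¹ * ι (negCo0 * b) * g) * g⁻¹ := by group
        _ = 1 := by rw [← hq, mul_one, mul_inv_cancel]
    rw [← map_one ι] at this
    have hbn : b = negCo0 := (eq_inv_of_mul_eq_one_right (E.inj this)).trans
      (inv_eq_of_mul_eq_one_right negCo0_sq)
    obtain ⟨r, hr⟩ := isConj_iff.1 hb
    refine E.eps_ne.2 ?_
    calc epsCo0 = r⁻¹ * (r * epsCo0 * r⁻¹) * r := by group
      _ = negCo0 := by rw [hr, hbn, mul_assoc, neg_comm, inv_mul_cancel_left]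
  have hqn : q ≠ negCo0 := fun h => nK (by rw [h]; exact ⟨1, by group⟩)
  rcases E.cls_of hq2 hq1 hqn with h | h | h
  · exact nK (E.IsK_cls h he)
  · exact nK' (E.IsK_cls ((negCo0_mul_cls (x := q)).2.1 h) he)
  · exact nK (E.IsK_cls h hd)

theorem normal (hO : Cfsg.oddCore G = ⊥) : A.Normal := by
  refine E.setup.normal_of_isolated hO fun x hx hK => ?_
  obtain ⟨y, rfl⟩ := E.exists_eq hx
  by_contra hne
  rcases E.cls_of_isK hK (fun h => hne (congrArg ι h)) with h | h | h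
  · exact E.not_isK_eps (E.IsK_cls' h hK)
  · exact E.not_isK_wElt (E.IsK_cls' h hK)
  · exact E.not_isK_eps (E.isK_eps_of_dod (E.IsK_cls' h hK))

end Emb

variable {G : Type*} [Group G] [Finite G]

/-- A standard subgroup isomorphic to `Co0` with cyclic Sylow 2-subgroups in its centralizer is normal. -/
theorem normal_of_standard (hO : Cfsg.oddCore G = ⊥) (A : Subgroup G)
    (hA : Cfsg.IsStandardSubgroup A) (e : ↥A ≃* ↥Co0)
    (hR : ∀ R : Sylow 2 ↥(centralizer (A : Set G)),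
      IsCyclic ↥(R : Subgroup ↥(centralizer (A : Set G)))) : A.Normal := by
  haveI := co0_finite
  set ι : ↥Co0 →* G := A.subtype.comp e.symm.toMonoidHom
  have hinj : Function.Injective ι := A.subtype_injective.comp e.symm.injective
  have hrange : ι.range = A := by
    ext x
    exact ⟨fun ⟨y, hy⟩ => hy ▸ (e.symm y).2, fun hx => ⟨e ⟨x, hx⟩, by simp [ι]⟩⟩
  have hperf : Group.IsPerfect Co0 := by
    haveI := hA.1.1
    exact Group.IsPerfect.ofSurjective (f := e.toMonoidHom) e.surjective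
  have hmem : ι negCo0 ∈ centralizer (A : Set G) := by
    rw [Subgroup.mem_centralizer_iff]
    intro x hx
    obtain ⟨b, rfl⟩ : x ∈ ι.range := hrange.symm ▸ hx
    rw [← map_mul, ← map_mul, neg_comm]
  refine Emb.normal ⟨hinj, hrange, ⟨hA, hR, ?_, hrange ▸ ⟨_, rfl⟩, hmem, ?_, ?_⟩⟩ hO
  · exact orderOf_eq_prime (by rw [← map_pow, pow_two, negCo0_sq, map_one])
      fun h => negCo0_ne_one (hinj (h.trans (map_one ι).symm))
  · intro a ha hac
    obtain ⟨b, rfl⟩ : a ∈ ι.range := hrange.symm ▸ ha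
    have hb : b ∈ Subgroup.center Co0 := Subgroup.mem_center_iff.2 fun c => hinj (by
      rw [map_mul, map_mul]
      exact Subgroup.mem_centralizer_iff.1 hac _ (hrange.le ⟨c, rfl⟩))
    rcases center_cases hb with h | h <;> rw [h, ← map_mul]
    · rw [one_mul, map_one]
    · rw [negCo0_sq, map_one]
  · intro x hx
    have hAx : A.map (MulAut.conj x).toMonoidHom = A := mem_normalizer_iff_map_conj_eq.1 hx
    let φ : ↥Co0 ≃* ↥Co0 := e.symm.trans
      ((((MulAut.conj x).subgroupMap A).trans (MulEquiv.subgroupCongr hAx)).trans e)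
    obtain ⟨a, ha⟩ := exists_conj_of_mulEquiv hperf φ
    refine ⟨ι a, hrange ▸ ⟨a, rfl⟩, (ι a)⁻¹ * x, ?_, by group⟩
    rw [Subgroup.mem_centralizer_iff]
    intro w hw
    obtain ⟨y, rfl⟩ : w ∈ ι.range := hrange.symm ▸ hw
    have h1 : ι (φ y) = x * ι y * x⁻¹ := by
      simp [φ, ι, MulEquiv.subgroupCongr]
      rfl
    rw [ha, map_mul, map_mul, map_inv] at h1
    calc ι y * ((ι a)⁻¹ * x) = (ι a)⁻¹ * (ι a * ι y * (ι a)⁻¹) * x := by group
      _ = (ι a)⁻¹ * (x * ι y * x⁻¹) * x := by rw [h1]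
      _ = (ι a)⁻¹ * x * ι y := by group

end CfsgLib.CoZeroStd
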